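import Mathlib

/-!
# A corner of a symmetric algebra with a small space of traces
-/

set_option linter.style.haveILetI false
set_option linter.unusedSectionVars false

namespace Cfsg.Agent.BlockCharsA.TwoChars

open Module

universe u v w

variable {F : Type u} [Field F] {𝒜 : Type v} [Ring 𝒜] [Algebra F 𝒜] {W : Type w}
  [AddCommGroup W] [Module F W]

variable (F 𝒜) in
/-- The span of the commutators. -/
def commSpan : Submodule F 𝒜 := Submodule.span F (Set.range fun q : 𝒜 × 𝒜 => q.1 * q.2 - q.2 * q.1)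

theorem comm_mem_commSpan (a b : 𝒜) : a * b - b * a ∈ commSpan F 𝒜 :=
  Submodule.subset_span ⟨(a, b), rfl⟩

/-- The corner at `E`, as the range of `x ↦ E x E`. -/
def cornerMap (F : Type u) [Field F] {𝒜 : Type v} [Ring 𝒜] [Algebra F 𝒜] (E : 𝒜) : 𝒜 →ₗ[F] 𝒜 :=
  (LinearMap.mulLeft F E).comp (LinearMap.mulRight F E)

theorem mem_corner {E : 𝒜} (hE : E * E = E) {x : 𝒜} :
    x ∈ LinearMap.range (cornerMap F E) ↔ E * x = x ∧ x * E = x := by
  constructor
  · rintro ⟨y, rfl⟩
    refine ⟨?_, ?_⟩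
    · show E * (E * (y * E)) = E * (y * E)
      rw [← mul_assoc, hE]
    · show E * (y * E) * E = E * (y * E)
      rw [mul_assoc, mul_assoc, hE]
  · rintro ⟨h1, h2⟩
    exact ⟨x, show E * (x * E) = x by rw [h2, h1]⟩

theorem exists_pi_map [IsAlgClosed F] [FiniteDimensional F 𝒜] :
    ∃ (s : ℕ) (n : Fin s → ℕ), (∀ i, NeZero (n i)) ∧
      ∃ π : 𝒜 →ₐ[F] Π i, Matrix (Fin (n i)) (Fin (n i)) F,
        Function.Surjective π ∧ (∀ x, π x = 0 → x ∈ Ring.jacobson 𝒜) ∧
          ∀ x ∈ Ring.jacobson 𝒜, π x = 0 := by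
  haveI : IsArtinianRing 𝒜 := IsArtinianRing.of_finite F 𝒜
  haveI : IsSemisimpleRing (𝒜 ⧸ Ring.jacobson 𝒜) := IsSemiprimaryRing.isSemisimpleRing
  haveI : FiniteDimensional F (𝒜 ⧸ Ring.jacobson 𝒜) :=
    Module.Finite.of_surjective (Ideal.Quotient.mkₐ F (Ring.jacobson 𝒜)).toLinearMap
      Ideal.Quotient.mk_surjective
  obtain ⟨s, n, hn, ⟨e⟩⟩ :=
    IsSemisimpleRing.exists_algEquiv_pi_matrix_of_isAlgClosed F (𝒜 ⧸ Ring.jacobson 𝒜)
  refine ⟨s, n, hn, e.toAlgHom.comp (Ideal.Quotient.mkₐ F (Ring.jacobson 𝒜)),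
    e.surjective.comp Ideal.Quotient.mk_surjective, fun x hx => ?_, fun x hx => ?_⟩
  · refine Ideal.Quotient.eq_zero_iff_mem.1 (e.injective ?_)
    rw [map_zero]
    exact hx
  · show e (Ideal.Quotient.mk (Ring.jacobson 𝒜) x) = 0
    rw [Ideal.Quotient.eq_zero_iff_mem.2 hx, map_zero]

theorem span_pair_of_finrank_le {Φ : 𝒜 →ₗ[F] W} {V : Submodule F 𝒜} [FiniteDimensional F 𝒜]
    (hr : finrank F (V.map Φ) ≤ 2) {a b : 𝒜} (ha : a ∈ V) (hb : b ∈ V)
    (hind : ∀ c d : F, c • Φ a + d • Φ b = 0 → c = 0 ∧ d = 0) {x : 𝒜} (hx : x ∈ V) :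
    ∃ c d : F, Φ x = c • Φ a + d • Φ b := by
  set S := Submodule.span F (Set.range ![Φ a, Φ b])
  have hli : LinearIndependent F ![Φ a, Φ b] := LinearIndependent.pair_iff.2 hind
  have hle : S ≤ V.map Φ := by
    refine Submodule.span_le.2 ?_
    rintro _ ⟨i, rfl⟩
    fin_cases i
    · exact ⟨a, ha, rfl⟩
    · exact ⟨b, hb, rfl⟩
  have heq : S = V.map Φ := Submodule.eq_of_le_of_finrank_le hle (by
    rw [finrank_span_eq_card hli, Fintype.card_fin]; exact hr)
  have hmem : Φ x ∈ S := heq ▸ Submodule.mem_map_of_mem hx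
  rw [Submodule.mem_span_range_iff_exists_fun] at hmem
  obtain ⟨c, hc⟩ := hmem
  exact ⟨c 0, c 1, by rw [← hc, Fin.sum_univ_two]; rfl⟩

theorem pow_eq_bot_of_le_jacobson {L : ℕ} (hL : Ring.jacobson 𝒜 ^ L = ⊥) {N : Submodule F 𝒜}
    (hN : ∀ x ∈ N, x ∈ Ring.jacobson 𝒜) : N ^ (L + 1) = ⊥ := by
  refine (Submodule.eq_bot_iff _).2 fun x hx => ?_
  have hle : ∀ m : ℕ, ∀ y ∈ N ^ (m + 1), y ∈ Ring.jacobson 𝒜 ^ (m + 1) := by
    intro m
    induction m with
    | zero =>
      intro y hy
      rw [pow_one] at hy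
      rw [zero_add, Submodule.pow_one]
      exact hN y hy
    | succ m ih =>
      intro y hy
      rw [pow_succ] at hy
      rw [Submodule.pow_succ]
      induction hy using Submodule.mul_induction_on' with
      | mem_mul_mem a ha b hb => exact Ideal.mul_mem_mul (ih a ha) (hN b hb)
      | add a _ b _ iha ihb => exact add_mem iha ihb
  have h := hle L x hx
  rw [Submodule.pow_succ, hL, Submodule.bot_mul] at h
  exact h

/-- If the radical of a corner is generated by one element, the corner is commutative. -/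
theorem commute_of_gen {E u : 𝒜} {A N : Submodule F 𝒜} {L : ℕ} (hres : ∀ x ∈ A, ∃ c : F, x - c • E ∈ N)
    (hNN : N * N ≤ N) (hNL : N ^ (L + 1) = ⊥) (huN : u ∈ N) (hu : N ≤ (F ∙ u) ⊔ N * N)
    (hEu' : Commute E u) : ∀ x ∈ A, ∀ y ∈ A, Commute x y := by
  set P := Submodule.span F (Set.range fun m : ℕ => u ^ (m + 1)) with hP
  have huP : u ∈ P := Submodule.subset_span ⟨0, pow_one u⟩
  have hPN : P ≤ N := by
    refine Submodule.span_le.2 ?_
    rintro _ ⟨m, rfl⟩
    show u ^ (m + 1) ∈ N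
    induction m with
    | zero => rwa [pow_one]
    | succ m ih =>
      rw [pow_succ]
      exact hNN (Submodule.mul_mem_mul ih huN)
  have hPP : P * P ≤ P := by
    rw [hP, Submodule.span_mul_span]
    refine Submodule.span_le.2 ?_
    rintro _ ⟨_, ⟨a, rfl⟩, _, ⟨b, rfl⟩, rfl⟩
    exact Submodule.subset_span ⟨a + b + 1, by
      show u ^ (a + b + 1 + 1) = u ^ (a + 1) * u ^ (b + 1)
      rw [← pow_add]; congr 1; omega⟩
  have hpows : ∀ m : ℕ, N ^ (m + 1) ≤ N := by
    intro m
    induction m with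
    | zero => rw [pow_one]
    | succ m ih =>
      rw [pow_succ]
      exact Submodule.mul_le.2 fun a ha b hb => hNN (Submodule.mul_mem_mul (ih ha) hb)
  have hstep : ∀ m : ℕ, N ≤ P ⊔ N ^ (m + 1) := by
    intro m
    induction m with
    | zero => rw [pow_one]; exact le_sup_right
    | succ m ih =>
      have h1 : N ^ (m + 1) * N = N ^ (m + 2) := (pow_succ N (m + 1)).symm
      have h2 : N * N ^ (m + 1) = N ^ (m + 2) := (pow_succ' N (m + 1)).symm
      have hPQ : P * N ^ (m + 1) ≤ N ^ (m + 2) := by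
        rw [← h2]; exact Submodule.mul_le.2 fun a ha b hb => Submodule.mul_mem_mul (hPN ha) hb
      have hQP : N ^ (m + 1) * P ≤ N ^ (m + 2) := by
        rw [← h1]; exact Submodule.mul_le.2 fun a ha b hb => Submodule.mul_mem_mul ha (hPN hb)
      have hQQ : N ^ (m + 1) * N ^ (m + 1) ≤ N ^ (m + 2) := by
        rw [← h1]
        exact Submodule.mul_le.2 fun a ha b hb => Submodule.mul_mem_mul ha (hpows m hb)
      have hsq : N * N ≤ P ⊔ N ^ (m + 2) := by
        refine Submodule.mul_le.2 fun a ha b hb => ?_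
        obtain ⟨p, hp, q, hq, rfl⟩ := Submodule.mem_sup.1 (ih ha)
        obtain ⟨p', hp', q', hq', rfl⟩ := Submodule.mem_sup.1 (ih hb)
        rw [add_mul, mul_add, mul_add]
        exact add_mem
          (add_mem (Submodule.mem_sup_left (hPP (Submodule.mul_mem_mul hp hp')))
            (Submodule.mem_sup_right (hPQ (Submodule.mul_mem_mul hp hq'))))
          (add_mem (Submodule.mem_sup_right (hQP (Submodule.mul_mem_mul hq hp')))
            (Submodule.mem_sup_right (hQQ (Submodule.mul_mem_mul hq hq'))))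
      refine hu.trans (sup_le (((Submodule.span_singleton_le_iff_mem _ _).2 huP).trans le_sup_left)
        hsq)
  have hAgen : A ≤ (F ∙ E) ⊔ P := fun x hx => by
    obtain ⟨c, hc⟩ := hres x hx
    have h := hstep L hc
    rw [hNL, sup_bot_eq] at h
    exact Submodule.mem_sup.2 ⟨c • E, Submodule.smul_mem _ _ (Submodule.mem_span_singleton_self E),
      _, h, add_sub_cancel _ _⟩
  have hEu : Commute E u := by
    exact hEu'
  have key : ∀ x ∈ (F ∙ E) ⊔ P, Commute E x ∧ Commute u x := by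
    intro x hx
    obtain ⟨y, hy, z, hz, rfl⟩ := Submodule.mem_sup.1 hx
    obtain ⟨c, rfl⟩ := Submodule.mem_span_singleton.1 hy
    have hz' : Commute E z ∧ Commute u z := by
      clear hx
      induction hz using Submodule.span_induction with
      | mem y hy =>
        obtain ⟨m, rfl⟩ := hy
        exact ⟨hEu.pow_right _, (Commute.refl u).pow_right _⟩
      | zero => exact ⟨Commute.zero_right _, Commute.zero_right _⟩
      | add a b _ _ ha hb => exact ⟨ha.1.add_right hb.1, ha.2.add_right hb.2⟩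
      | smul c a _ ha => exact ⟨ha.1.smul_right c, ha.2.smul_right c⟩
    exact ⟨((Commute.refl E).smul_right c).add_right hz'.1,
      (hEu.symm.smul_right c).add_right hz'.2⟩
  intro x hx y hy
  obtain ⟨hEy, huy⟩ := key y (hAgen hy)
  obtain ⟨a, ha, b, hb, rfl⟩ := Submodule.mem_sup.1 (hAgen hx)
  obtain ⟨c, rfl⟩ := Submodule.mem_span_singleton.1 ha
  refine (hEy.smul_left c).add_left ?_
  clear hx
  induction hb using Submodule.span_induction with
  | mem z hz =>
    obtain ⟨m, rfl⟩ := hz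
    exact huy.pow_left _
  | zero => exact Commute.zero_left _
  | add z z' _ _ h h' => exact h.add_left h'
  | smul c z _ h => exact h.smul_left c

set_option maxHeartbeats 1000000 in
/-- In a block with at most two traces, some idempotent generates the block and has a corner of
dimension at most two. -/
theorem exists_small_corner [IsAlgClosed F] [FiniteDimensional F 𝒜] (e : 𝒜) (he : e * e = e)
    (hec : ∀ x, e * x = x * e) (he0 : e ≠ 0) (Φ : 𝒜 →ₗ[F] W)
    (hΦ : ∀ x, Φ x = 0 ↔ x ∈ commSpan F 𝒜)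
    (hr : finrank F ((LinearMap.range (LinearMap.mulLeft F e)).map Φ) ≤ 2)
    (lam : 𝒜 →ₗ[F] F) (hlam : ∀ x, Φ x = 0 → lam x = 0)
    (hnd : ∀ x, (∀ y, lam (x * y) = 0) → x = 0)
    (hprim : ∀ c, (∀ x, c * x = x * c) → c * c = c → e * c = c → c = 0 ∨ c = e) :
    ∃ E : 𝒜, E * E = E ∧ e * E = E ∧ finrank F (LinearMap.range (cornerMap F E)) ≤ 2 ∧
      ∃ (k : ℕ) (a b : Fin k → 𝒜), ∑ i, a i * E * b i = e := by
  classical
  obtain ⟨s, n, hn, π, hsurj, hker, hJ⟩ := exists_pi_map (F := F) (𝒜 := 𝒜)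
  obtain ⟨L, hL⟩ : ∃ L : ℕ, Ring.jacobson 𝒜 ^ L = ⊥ := by
    haveI : IsArtinianRing 𝒜 := IsArtinianRing.of_finite F 𝒜
    exact IsSemiprimaryRing.isNilpotent
  have hnil : ∀ x, π x = 0 → IsNilpotent x := fun x hx => ⟨L, by
    have h := Ideal.pow_mem_pow (hker x hx) L
    rw [hL] at h
    exact h⟩
  set V := LinearMap.range (LinearMap.mulLeft F e) with hV
  have hVmem : ∀ y, e * y ∈ V := fun y => ⟨y, rfl⟩
  have hVfix : ∀ x ∈ V, e * x = x := by
    rintro _ ⟨y, rfl⟩
    show e * (e * y) = e * y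
    rw [← mul_assoc, he]
  -- the components where the block lives
  have hpe : ∀ i, π e i = 0 ∨ π e i = 1 := by
    intro i
    have hcen : ∀ Y : Matrix (Fin (n i)) (Fin (n i)) F, Commute Y (π e i) := fun Y => by
      obtain ⟨y, hy⟩ := hsurj (Pi.single i Y)
      have h := congrFun (congrArg π (hec y)) i
      rw [map_mul, map_mul, Pi.mul_apply, Pi.mul_apply, hy, Pi.single_eq_same] at h
      exact h.symm
    obtain ⟨c, hc⟩ := Matrix.mem_range_scalar_of_commute_single (M := π e i) fun a b _ => hcen _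
    have hidem := congrFun (congrArg π he) i
    rw [map_mul, Pi.mul_apply, ← hc, ← map_mul] at hidem
    haveI := hn i
    have hcc : c * c = c := Matrix.scalar_inj.1 hidem
    rcases mul_eq_zero.1 (show c * (c - 1) = 0 by rw [mul_sub, hcc, mul_one, sub_self]) with h | h
    · exact Or.inl (by rw [← hc, h, map_zero])
    · exact Or.inr (by rw [← hc, sub_eq_zero.1 h, map_one])
  set τ : Fin s → 𝒜 →ₗ[F] F := fun i =>
    (Matrix.traceLinearMap (Fin (n i)) F F).comp
      ((LinearMap.proj i).comp π.toLinearMap) with hτ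
  have hτv : ∀ i x, τ i x = Matrix.trace (π x i) := fun i x => rfl
  have hτC : ∀ i, ∀ x, Φ x = 0 → τ i x = 0 := by
    intro i x hx
    have hx' := (hΦ x).1 hx
    refine (Submodule.span_le.2 ?_ : commSpan F 𝒜 ≤ LinearMap.ker (τ i)) hx'
    rintro _ ⟨⟨a, b⟩, rfl⟩
    rw [SetLike.mem_coe, LinearMap.mem_ker, map_sub, hτv, hτv, map_mul, map_mul, Pi.mul_apply,
      Pi.mul_apply, Matrix.trace_mul_comm, sub_self]
  have hone : ∃ i, π e i = 1 := by
    by_contra hno
    push Not at hno
    obtain ⟨m, hm⟩ := hnil e (funext fun i => (hpe i).resolve_right (hno i))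
    rcases m with - | m
    · rw [pow_zero] at hm
      exact he0 (by rw [← mul_one e, hm, mul_zero])
    · exact he0 (by rw [← IsIdempotentElem.pow_succ_eq m he]; exact hm)
  obtain ⟨i₀, hi₀⟩ := hone
  haveI := hn i₀
  obtain ⟨w, hw⟩ := hsurj (Pi.single i₀ (Matrix.single 0 0 1))
  -- a single component
  have honly : ∀ i, i ≠ i₀ → π e i = 0 := by
    intro i hi
    refine (hpe i).resolve_right fun hi1 => ?_
    haveI := hn i
    obtain ⟨w', hw'⟩ := hsurj (Pi.single i (Matrix.single 0 0 1))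
    have hτw : τ i₀ (e * w) = 1 ∧ τ i (e * w) = 0 ∧ τ i₀ (e * w') = 0 ∧ τ i (e * w') = 1 := by
      refine ⟨?_, ?_, ?_, ?_⟩ <;>
        simp [hτv, map_mul, hw, hw', hi₀, hi1, hi, hi.symm]
    have hind : ∀ c d : F, c • Φ (e * w) + d • Φ (e * w') = 0 → c = 0 ∧ d = 0 := by
      intro c d h
      rw [← map_smul, ← map_smul, ← map_add] at h
      have h1 := hτC i₀ _ h
      have h2 := hτC i _ h
      simp only [map_add, map_smul, hτw, smul_eq_mul, mul_one, mul_zero, add_zero, zero_add] at h1 h2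
      exact ⟨h1, h2⟩
    have hJV : ∀ x, π x = 0 → e * x = x → x = 0 := by
      intro x hx hex
      refine hnd x fun y => hlam _ ?_
      have hxy : π (x * y) = 0 := by rw [map_mul, hx, zero_mul]
      have hV' : x * y ∈ V := ⟨x * y, show e * (x * y) = x * y by rw [← mul_assoc, hex]⟩
      obtain ⟨c, d, hcd⟩ := span_pair_of_finrank_le hr (hVmem w) (hVmem w') hind hV'
      rw [← map_smul, ← map_smul, ← map_add, ← sub_eq_zero, ← map_sub] at hcd
      have h1 := hτC i₀ _ hcd
      have h2 := hτC i _ hcd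
      simp only [map_sub, map_add, map_smul, hτw, smul_eq_mul, mul_one, mul_zero, add_zero,
        zero_add, hτv (x := x * y), hxy, Pi.zero_apply, Matrix.trace_zero, zero_sub,
        neg_eq_zero] at h1 h2
      rw [h1, h2, zero_smul, zero_smul, zero_add, sub_zero] at hcd
      exact hcd
    obtain ⟨c₀, hc₀⟩ := hsurj (Pi.single i₀ 1)
    have hπc : π (e * c₀) = Pi.single i₀ 1 := by
      rw [map_mul, hc₀]
      funext k
      rcases eq_or_ne k i₀ with rfl | hk
      · simp [hi₀]
      · simp [hk]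
    have hec' : e * (e * c₀) = e * c₀ := by rw [← mul_assoc, he]
    have hcent : ∀ y, e * c₀ * y = y * (e * c₀) := fun y => by
      refine sub_eq_zero.1 (hJV _ ?_ ?_)
      · rw [map_sub, map_mul, map_mul π y, hπc, sub_eq_zero]
        funext k
        rcases eq_or_ne k i₀ with rfl | hk
        · simp
        · simp [hk]
      · rw [mul_sub, ← mul_assoc, hec', ← mul_assoc e y, hec y, mul_assoc y e, hec']
    have hidem : e * c₀ * (e * c₀) = e * c₀ := by
      refine sub_eq_zero.1 (hJV _ ?_ ?_)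
      · rw [map_sub, map_mul, hπc, ← Pi.single_mul, one_mul, sub_self]
      · rw [mul_sub, ← mul_assoc, hec']
    rcases hprim _ hcent hidem hec' with h | h
    · have h' := congrFun hπc i₀
      rw [h, map_zero, Pi.single_eq_same] at h'
      exact zero_ne_one h'
    · have h' := congrFun hπc i
      rw [h, hi1, Pi.single_eq_of_ne hi] at h'
      exact one_ne_zero h'
  -- the idempotent
  have hπe : π e = Pi.single i₀ 1 := funext fun i => by
    rcases eq_or_ne i i₀ with rfl | hi
    · rw [hi₀, Pi.single_eq_same]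
    · rw [honly i hi, Pi.single_eq_of_ne hi]
  obtain ⟨E₀, hE₀, hE₀π⟩ := exists_isIdempotentElem_eq_of_ker_isNilpotent (π : 𝒜 →+* _)
    (fun x hx => hnil x (RingHom.mem_ker.1 hx)) (π (e * w)) ⟨e * w, rfl⟩ (by
      rw [IsIdempotentElem, map_mul, hπe, hw, ← Pi.single_mul, ← Pi.single_mul, one_mul,
        Matrix.single_mul_single_same, mul_one])
  set E := e * E₀ with hE
  have hEE : E * E = E := by
    rw [hE, mul_assoc, ← mul_assoc E₀, ← hec, mul_assoc e E₀, ← mul_assoc, he, hE₀.eq]
  have heE : e * E = E := by rw [hE, ← mul_assoc, he]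
  have hπE : π E = Pi.single i₀ (Matrix.single 0 0 1) := by
    have h : π E₀ = π (e * w) := hE₀π
    rw [hE, map_mul, h, ← map_mul, ← mul_assoc, he, map_mul, hπe, hw, ← Pi.single_mul, one_mul]
  clear_value E
  -- it generates the block
  have hmat : ∀ a b : Fin (n i₀), ∃ y, π y = Pi.single i₀ (Matrix.single a b 1) :=
    fun a b => hsurj _
  choose mu hmu using hmat
  set S := ∑ a, e * mu a 0 * E * mu 0 a with hS
  have hπS : π S = π e := by
    rw [hS, map_sum, hπe]
    simp only [map_mul, hmu, hπe, hπE, ← Pi.single_mul, one_mul, Matrix.single_mul_single_same,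
      mul_one]
    refine (map_sum (AddMonoidHom.single (fun i => Matrix (Fin (n i)) (Fin (n i)) F) i₀)
      (fun a => Matrix.single a a (1 : F)) Finset.univ).symm.trans
      (congrArg (Pi.single i₀) ?_)
    ext a b
    rw [Matrix.sum_apply, Matrix.one_apply]
    by_cases hab : a = b
    · subst hab
      simp [Matrix.single_apply]
    · rw [if_neg hab]
      refine Finset.sum_eq_zero fun c _ => ?_
      simp only [Matrix.single_apply]
      rw [if_neg]
      rintro ⟨rfl, rfl⟩
      exact hab rfl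
  have heS : e * S = S := by
    rw [hS, Finset.mul_sum]
    exact Finset.sum_congr rfl fun a _ => by simp only [← mul_assoc, he]
  obtain ⟨v, hv⟩ := (hnil (e - S) (by rw [map_sub, hπS, sub_self])).isUnit_one_sub
  have hv' : e * (v : 𝒜) = S := by
    rw [hv, mul_sub, mul_one, mul_sub, he, heS, sub_sub_cancel]
  have hgen : ∑ a, e * mu a 0 * E * (mu 0 a * (↑v⁻¹ : 𝒜)) = e := by
    simp only [← mul_assoc, ← Finset.sum_mul]
    rw [← hS, ← hv', mul_assoc, Units.mul_inv, mul_one]
  refine ⟨E, hEE, heE, ?_, n i₀, fun a => e * mu a 0, fun a => mu 0 a * (↑v⁻¹ : 𝒜), hgen⟩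
  -- the corner
  set A := LinearMap.range (cornerMap F E) with hA
  set N := A ⊓ LinearMap.ker π.toLinearMap with hN
  have hAE : E ∈ A := (mem_corner hEE).2 ⟨hEE, hEE⟩
  have hAV : A ≤ V := fun x hx => by
    obtain ⟨h1, -⟩ := (mem_corner hEE).1 hx
    exact ⟨x, show e * x = x by rw [← h1, ← mul_assoc, heE]⟩
  have hAmul : ∀ x ∈ A, ∀ y ∈ A, x * y ∈ A := fun x hx y hy => (mem_corner hEE).2
    ⟨by rw [← mul_assoc, ((mem_corner hEE).1 hx).1],
      by rw [mul_assoc, ((mem_corner hEE).1 hy).2]⟩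
  have hNN : N * N ≤ N := Submodule.mul_le.2 fun x hx y hy => ⟨hAmul x hx.1 y hy.1, by
    show π (x * y) = 0
    rw [map_mul, show π x = 0 from hx.2, zero_mul]⟩
  have hres : ∀ x ∈ A, ∃ c : F, x - c • E ∈ N := by
    intro x hx
    refine ⟨π x i₀ 0 0, A.sub_mem hx (A.smul_mem _ hAE), ?_⟩
    show π (x - π x i₀ 0 0 • E) = 0
    obtain ⟨h1, h2⟩ := (mem_corner hEE).1 hx
    have hx' : π x = Pi.single i₀ (π x i₀ 0 0 • Matrix.single 0 0 1) := by
      funext k
      have h3 : π x k = π E k * π x k * π E k := by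
        rw [← Pi.mul_apply, ← Pi.mul_apply, ← map_mul, ← map_mul, h1, h2]
      rw [hπE] at h3
      rcases eq_or_ne k i₀ with rfl | hk
      · rw [Pi.single_eq_same] at h3 ⊢
        conv_lhs => rw [h3]
        rw [Matrix.single_mul_mul_single, one_mul, mul_one, Matrix.smul_single, smul_eq_mul,
          mul_one]
      · rw [Pi.single_eq_of_ne hk] at h3 ⊢
        rw [h3, zero_mul, zero_mul]
    rw [map_sub, map_smul, hπE, ← Pi.single_smul, ← hx', sub_self]
  set CA := Submodule.span F (Set.range fun q : A × A => (q.1 : 𝒜) * q.2 - q.2 * q.1) with hCA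
  set a' : Fin (n i₀) → 𝒜 := fun a => e * mu a 0
  set b' : Fin (n i₀) → 𝒜 := fun a => mu 0 a * (↑v⁻¹ : 𝒜)
  have hgen' : ∑ a, a' a * E * b' a = e := hgen
  set T : 𝒜 →ₗ[F] 𝒜 :=
    ∑ a, (LinearMap.mulLeft F (E * b' a)).comp (LinearMap.mulRight F (e * a' a * E)) with hT
  have hTv : ∀ y, T y = ∑ a, E * b' a * (y * (e * a' a * E)) := fun y => by
    simp [T, mul_assoc]
  have hcm : ∀ y z, (E * y * E) * (E * z * E) - (E * z * E) * (E * y * E) ∈ CA := fun y z =>
    Submodule.subset_span ⟨(⟨E * y * E, (mem_corner hEE).2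
      ⟨by rw [← mul_assoc, ← mul_assoc, hEE], by rw [mul_assoc, hEE]⟩⟩, ⟨E * z * E, (mem_corner
        hEE).2 ⟨by rw [← mul_assoc, ← mul_assoc, hEE], by rw [mul_assoc, hEE]⟩⟩), rfl⟩
  have hTmul : ∀ y z, T (y * z) =
      ∑ a, ∑ b, (E * (b' a * y * a' b) * E) * (E * (b' b * z * (e * a' a)) * E) := by
    intro y z
    rw [hTv]
    refine Finset.sum_congr rfl fun a _ => ?_
    calc E * b' a * (y * z * (e * a' a * E))
        = E * b' a * (y * (e * z) * (e * a' a * E)) := by
          rw [hec z]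
          simp only [mul_assoc]
          rw [← mul_assoc e e, he]
      _ = ∑ b, E * b' a * (y * (a' b * E * b' b * z) * (e * a' a * E)) := by
          rw [← hgen', Finset.sum_mul, Finset.mul_sum, Finset.sum_mul, Finset.mul_sum]
      _ = _ := Finset.sum_congr rfl fun b _ => by
          simp only [← mul_assoc]
          rw [mul_assoc (E * b' a * y * a' b) E E, hEE]
  have hTcomm : ∀ x ∈ commSpan F 𝒜, T x ∈ CA := by
    intro x hx
    refine (Submodule.span_le.2 ?_ : commSpan F 𝒜 ≤ CA.comap T) hx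
    rintro _ ⟨⟨y, z⟩, rfl⟩
    show T (y * z - z * y) ∈ CA
    have hswap : ∀ a b, E * (b' a * y * a' b) * E * (E * (b' b * z * (e * a' a)) * E) =
        E * (b' a * y * (e * a' b)) * E * (E * (b' b * z * a' a) * E) := by
      intro a b
      have : ∀ c, e * a' c = a' c := fun c => by simp only [a', ← mul_assoc, he]
      simp only [this]
    rw [map_sub, hTmul, hTmul, Finset.sum_comm (γ := Fin (n i₀))
      (f := fun a b => E * (b' a * z * a' b) * E * (E * (b' b * y * (e * a' a)) * E)),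
      ← Finset.sum_sub_distrib]
    refine Submodule.sum_mem _ fun a _ => ?_
    rw [← Finset.sum_sub_distrib]
    refine Submodule.sum_mem _ fun b _ => ?_
    rw [hswap]
    exact hcm _ _
  have hTfix : ∀ x ∈ A, T x - x ∈ CA := by
    intro x hx
    obtain ⟨h1, h2⟩ := (mem_corner hEE).1 hx
    have hx2 : x = ∑ a, (E * (x * (e * a' a)) * E) * (E * b' a * E) := by
      calc x = x * e * E := by rw [mul_assoc, heE, h2]
        _ = ∑ a, x * (a' a * E * b' a) * E := by
            rw [← hgen', Finset.mul_sum, Finset.sum_mul]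
        _ = _ := Finset.sum_congr rfl fun a _ => by
            have : e * a' a = a' a := by simp only [a', ← mul_assoc, he]
            rw [this, ← mul_assoc E x, h1]
            simp only [← mul_assoc]
            rw [mul_assoc (x * a' a) E E, hEE]
    have hT2 : T x = ∑ a, (E * b' a * E) * (E * (x * (e * a' a)) * E) := by
      rw [hTv]
      refine Finset.sum_congr rfl fun a _ => ?_
      simp only [← mul_assoc]
      rw [mul_assoc (E * b' a) E E, hEE, mul_assoc (E * b' a) E x, h1]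
    rw [hT2]
    nth_rewrite 2 [hx2]
    rw [← Finset.sum_sub_distrib]
    exact Submodule.sum_mem _ fun a _ => hcm _ _
  have hCA_N : CA ≤ N * N := by
    refine Submodule.span_le.2 ?_
    rintro _ ⟨⟨x, y⟩, rfl⟩
    obtain ⟨c, hc⟩ := hres x x.2
    obtain ⟨d, hd⟩ := hres y y.2
    obtain ⟨hx1, hx2⟩ := (mem_corner hEE).1 x.2
    obtain ⟨hy1, hy2⟩ := (mem_corner hEE).1 y.2
    have hre : (x : 𝒜) * y - y * x =
        ((x : 𝒜) - c • E) * (y - d • E) - (y - d • E) * (x - c • E) := by
      simp only [sub_mul, mul_sub, smul_mul_assoc, mul_smul_comm, hEE, hx1, hx2, hy1, hy2,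
        smul_sub, smul_smul]
      module
    show (x : 𝒜) * y - y * x ∈ N * N
    rw [hre]
    exact Submodule.sub_mem _ (Submodule.mul_mem_mul hc hd) (Submodule.mul_mem_mul hd hc)
  have hkerA : ∀ x ∈ A, Φ x = 0 → x ∈ CA := fun x hx h0 => by
    have h1 := hTcomm x ((hΦ x).1 h0)
    have h2 := hTfix x hx
    have h3 := CA.sub_mem h1 h2
    rwa [sub_sub_cancel] at h3
  have hπE00 : ∀ c : F, c • E ∈ N → c = 0 := by
    intro c hc
    have h : π (c • E) = 0 := hc.2
    have h2 := congrFun (congrFun (congrFun h i₀) 0) 0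
    simpa [map_smul, hπE, Matrix.single_apply] using h2
  obtain ⟨u, huN, hu⟩ : ∃ u ∈ N, N ≤ (F ∙ u) ⊔ N * N := by
    by_cases hK : N ≤ N * N
    · exact ⟨0, zero_mem _, hK.trans le_sup_right⟩
    obtain ⟨u, hu, huK⟩ := SetLike.not_le_iff_exists.1 hK
    refine ⟨u, hu, fun x hx => ?_⟩
    have hind : ∀ c d : F, c • Φ E + d • Φ u = 0 → c = 0 ∧ d = 0 := by
      intro c d h
      rw [← map_smul, ← map_smul, ← map_add] at h
      have h1 := hCA_N (hkerA _ (A.add_mem (A.smul_mem _ hAE) (A.smul_mem _ hu.1)) h)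
      have hc : c = 0 := hπE00 c (by
        have := N.sub_mem (hNN h1) (N.smul_mem d hu)
        rwa [add_sub_cancel_right] at this)
      refine ⟨hc, by_contra fun hd => huK ?_⟩
      rw [hc, zero_smul, zero_add] at h1
      have := (N * N).smul_mem d⁻¹ h1
      rwa [inv_smul_smul₀ hd] at this
    have hrA : finrank F (A.map Φ) ≤ 2 := (Submodule.finrank_mono (Submodule.map_mono hAV)).trans hr
    obtain ⟨c, d, hcd⟩ := span_pair_of_finrank_le hrA hAE hu.1 hind hx.1
    rw [← map_smul, ← map_smul, ← map_add, ← sub_eq_zero, ← map_sub] at hcd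
    have h1 := hCA_N (hkerA _ (A.sub_mem hx.1 (A.add_mem (A.smul_mem _ hAE) (A.smul_mem _ hu.1)))
      hcd)
    have hc : c = 0 := hπE00 c (by
      have := N.sub_mem (N.sub_mem hx (N.smul_mem d hu)) (hNN h1)
      convert this using 1
      abel)
    rw [hc, zero_smul, zero_add] at h1
    exact Submodule.mem_sup.2 ⟨d • u, Submodule.smul_mem _ _ (Submodule.mem_span_singleton_self u),
      _, h1, by abel⟩
  have hcomm : ∀ x ∈ A, ∀ y ∈ A, Commute x y :=
    commute_of_gen hres hNN (pow_eq_bot_of_le_jacobson hL fun x hx => hker x hx.2) huN hu (by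
      obtain ⟨h1, h2⟩ := (mem_corner hEE).1 huN.1
      exact h1.trans h2.symm)
  have hCA0 : CA ≤ ⊥ := by
    refine Submodule.span_le.2 ?_
    rintro _ ⟨⟨x, y⟩, rfl⟩
    simp [(hcomm x x.2 y y.2).eq]
  have hinj : Function.Injective (Φ.domRestrict A) := by
    rw [← LinearMap.ker_eq_bot, LinearMap.ker_eq_bot']
    intro x hx
    exact Subtype.ext (hCA0 (hkerA x x.2 hx))
  have h1 : finrank F (A.map Φ) = finrank F A := by
    rw [← LinearMap.range_domRestrict]
    exact LinearMap.finrank_range_of_inj hinj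
  calc finrank F A = finrank F (A.map Φ) := h1.symm
    _ ≤ 2 := (Submodule.finrank_mono (Submodule.map_mono hAV)).trans hr

end Cfsg.Agent.BlockCharsA.TwoChars
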