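import Mathlib
import Cfsg.Agent.Lib.Blocks.Block
import Cfsg.Agent.BlockCharsA.TwoChars.Algebra

/-!
# Class sums of coefficients in a group algebra
-/

set_option linter.style.haveILetI false
set_option linter.unusedSectionVars false

namespace Cfsg.Agent.BlockCharsA.TwoChars

open Module MonoidAlgebra Cfsg.Agent.Blocks Cfsg.Agent.Characters
open scoped ComplexConjugate

universe u v w

section General

variable {G : Type u} [Group G] [Finite G] {k : Type v} [CommRing k]

open scoped Classical in
/-- The sum of the coefficients over each conjugacy class. -/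
noncomputable def classCoeff : MonoidAlgebra k G →ₗ[k] (ConjClasses G → k) :=
  (MonoidAlgebra.basis G k).constr k fun g => Pi.single (ConjClasses.mk g) 1

theorem gel_eq_sum [Fintype G] (z : MonoidAlgebra k G) : z = ∑ g : G, single g (z.coeff g) := by
  classical
  ext h
  simp [MonoidAlgebra.coeff_sum, Finsupp.finset_sum_apply, MonoidAlgebra.coeff_single,
    Finsupp.single_apply]

open scoped Classical in
theorem classCoeff_single (g : G) (r : k) :
    classCoeff (single g r) = Pi.single (ConjClasses.mk g) r := by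
  classical
  have h : (single g r : MonoidAlgebra k G) = r • MonoidAlgebra.basis G k g := by
    rw [MonoidAlgebra.basis_apply, smul_single, smul_eq_mul, mul_one]
  rw [h, map_smul, classCoeff, Basis.constr_basis, ← Pi.single_smul, smul_eq_mul, mul_one]

open scoped Classical in
theorem classCoeff_apply [Fintype G] (z : MonoidAlgebra k G) (C : ConjClasses G) :
    classCoeff z C = ∑ g : G, if ConjClasses.mk g = C then z.coeff g else 0 := by
  conv_lhs => rw [gel_eq_sum z]
  simp only [map_sum, Finset.sum_apply, classCoeff_single, Pi.single_apply]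
  exact Finset.sum_congr rfl fun g _ => by
    by_cases h : ConjClasses.mk g = C
    · rw [if_pos h, if_pos h.symm]
    · rw [if_neg h, if_neg (Ne.symm h)]

theorem classCoeff_one (z : MonoidAlgebra k G) : classCoeff z (ConjClasses.mk 1) = z.coeff 1 := by
  classical
  haveI := Fintype.ofFinite G
  rw [classCoeff_apply, Finset.sum_eq_single 1]
  · rw [if_pos rfl]
  · intro g _ hg
    rw [if_neg]
    intro h
    exact hg (isConj_one_left.1 (ConjClasses.mk_eq_mk_iff_isConj.1 h))
  · simp

theorem classCoeff_comm (x y : MonoidAlgebra k G) : classCoeff (x * y) = classCoeff (y * x) := by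
  classical
  haveI := Fintype.ofFinite G
  rw [gel_eq_sum x, gel_eq_sum y]
  simp only [Finset.sum_mul, Finset.mul_sum, map_sum, single_mul_single, classCoeff_single]
  rw [Finset.sum_comm]
  refine Finset.sum_congr rfl fun g _ => Finset.sum_congr rfl fun h _ => ?_
  rw [mul_comm (y.coeff h), ConjClasses.mk_eq_mk_iff_isConj.2
    (isConj_iff.2 ⟨g, by group⟩ : IsConj (h * g) (g * h))]

theorem classCoeff_map {k' : Type w} [CommRing k'] (f : k →+* k') (z : MonoidAlgebra k G)
    (C : ConjClasses G) :
    f (classCoeff z C) = classCoeff (MonoidAlgebra.mapRingHom G f z) C := by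
  classical
  haveI := Fintype.ofFinite G
  rw [classCoeff_apply, classCoeff_apply, map_sum]
  refine Finset.sum_congr rfl fun g _ => ?_
  have hc : (MonoidAlgebra.mapRingHom G f z).coeff g = f (z.coeff g) :=
    MonoidAlgebra.coeff_map f.toAddMonoidHom z ▸ rfl
  split
  · rw [hc]
  · exact map_zero f

end General

section Kernel

variable {G : Type u} [Group G] [Finite G] {F : Type v} [Field F]

theorem classCoeff_eq_zero_iff (x : MonoidAlgebra F G) :
    classCoeff x = 0 ↔ x ∈ commSpan F (MonoidAlgebra F G) := by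
  classical
  haveI := Fintype.ofFinite G
  constructor
  · intro h
    set r : ConjClasses G → G := fun C => Quotient.out C
    have hr : ∀ C, ConjClasses.mk (r C) = C := fun C => Quotient.out_eq C
    have h0 : ∑ g : G, single (r (ConjClasses.mk g)) (x.coeff g) = (0 : MonoidAlgebra F G) := by
      rw [← Finset.sum_fiberwise_of_maps_to (t := (Finset.univ : Finset (ConjClasses G)))
        (g := ConjClasses.mk) (fun _ _ => Finset.mem_univ _)]
      refine Finset.sum_eq_zero fun C _ => ?_
      rw [Finset.sum_congr rfl (g := fun g => single (r C) (x.coeff g)) fun g hg => by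
        rw [(Finset.mem_filter.1 hg).2]]
      show ∑ g ∈ Finset.univ.filter (fun g : G => ConjClasses.mk g = C),
        MonoidAlgebra.singleAddHom (r C) (x.coeff g) = 0
      rw [← map_sum (MonoidAlgebra.singleAddHom (r C)), Finset.sum_filter, ← classCoeff_apply, h,
        Pi.zero_apply, map_zero]
    have hx : x = ∑ g : G, (single g (x.coeff g) - single (r (ConjClasses.mk g)) (x.coeff g)) := by
      rw [Finset.sum_sub_distrib, h0, sub_zero]
      exact gel_eq_sum x
    rw [hx]
    refine Submodule.sum_mem _ fun g _ => ?_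
    obtain ⟨u, hu⟩ := isConj_iff.1 (ConjClasses.mk_eq_mk_iff_isConj.1 (hr (ConjClasses.mk g)))
    have := comm_mem_commSpan (F := F) (single (u * r (ConjClasses.mk g)) (x.coeff g))
      (single u⁻¹ (1 : F) : MonoidAlgebra F G)
    rwa [single_mul_single, single_mul_single, mul_one, one_mul, hu, inv_mul_cancel_left] at this
  · intro hx
    refine LinearMap.mem_ker.1 ((Submodule.span_le.2 ?_ : commSpan F (MonoidAlgebra F G) ≤
      LinearMap.ker (classCoeff (G := G) (k := F))) hx)
    rintro _ ⟨⟨a, b⟩, rfl⟩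
    show classCoeff (a * b - b * a) = 0
    rw [map_sub, classCoeff_comm, sub_self]

end Kernel

section Complex

variable {G : Type u} [Group G] [Finite G]

open scoped Classical in
theorem sum_conj_evalChar [Fintype (Cfsg.IrrCharacter G)] (x : G) (z : MonoidAlgebra ℂ G) :
    ∑ χ : Cfsg.IrrCharacter G, conj ((χ : G → ℂ) x) * evalChar (χ : G → ℂ) z =
      (Nat.card (Subgroup.centralizer ({x} : Set G)) : ℂ) *
        classCoeff z (ConjClasses.mk x) := by
  haveI := Fintype.ofFinite G
  simp only [evalChar_eq_sum, Finset.mul_sum, classCoeff_apply]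
  rw [Finset.sum_comm]
  refine Finset.sum_congr rfl fun g _ => ?_
  calc ∑ χ : Cfsg.IrrCharacter G, conj ((χ : G → ℂ) x) * (z.coeff g * (χ : G → ℂ) g)
      = z.coeff g * ∑ χ : Cfsg.IrrCharacter G, (χ : G → ℂ) g * conj ((χ : G → ℂ) x) := by
        rw [Finset.mul_sum]; exact Finset.sum_congr rfl fun χ _ => by ring
    _ = _ := by
        rw [second_orthogonality]
        by_cases h : IsConj g x
        · rw [if_pos h, if_pos (ConjClasses.mk_eq_mk_iff_isConj.2 h), mul_comm]
        · rw [if_neg h, if_neg (mt ConjClasses.mk_eq_mk_iff_isConj.1 h), mul_zero, mul_zero]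

open scoped Classical in
theorem sum_conj_coeff [Fintype G] (x : G) (z : MonoidAlgebra ℂ G) :
    ∑ v : G, z.coeff (v * x * v⁻¹) =
      (Nat.card (Subgroup.centralizer ({x} : Set G)) : ℂ) *
        classCoeff z (ConjClasses.mk x) := by
  rw [classCoeff_apply, Finset.mul_sum]
  rw [← Finset.sum_fiberwise_of_maps_to (t := (Finset.univ : Finset G))
    (g := fun v : G => v * x * v⁻¹) (fun _ _ => Finset.mem_univ _)]
  refine Finset.sum_congr rfl fun g _ => ?_
  rw [Finset.sum_congr rfl (g := fun _ => z.coeff g) fun v hv => by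
    rw [(Finset.mem_filter.1 hv).2], Finset.sum_const, nsmul_eq_mul]
  by_cases h : ConjClasses.mk g = ConjClasses.mk x
  · obtain ⟨c, hc⟩ := isConj_iff.1 (ConjClasses.mk_eq_mk_iff_isConj.1 h.symm)
    rw [if_pos h]
    congr 2
    rw [Nat.card_eq_fintype_card, ← Fintype.card_subtype]
    refine Fintype.card_congr
      { toFun := fun v => ⟨c⁻¹ * v.1, ?_⟩
        invFun := fun w => ⟨c * w.1, ?_⟩
        left_inv := fun v => Subtype.ext (mul_inv_cancel_left _ _)
        right_inv := fun w => Subtype.ext (inv_mul_cancel_left _ _) }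
    · rw [Subgroup.mem_centralizer_singleton_iff]
      have h1 : v.1 * x * v.1⁻¹ = c * x * c⁻¹ := v.2.trans hc.symm
      calc c⁻¹ * v.1 * x = c⁻¹ * (v.1 * x * v.1⁻¹) * v.1 := by group
        _ = x * (c⁻¹ * v.1) := by rw [h1]; group
    · have h1 := Subgroup.mem_centralizer_singleton_iff.1 w.2
      calc c * w.1 * x * (c * w.1)⁻¹ = c * (w.1 * x) * w.1⁻¹ * c⁻¹ := by group
        _ = g := by rw [h1, ← hc]; group
  · rw [if_neg h, mul_zero]
    have he : (Finset.univ.filter fun v : G => v * x * v⁻¹ = g) = ∅ := by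
      refine Finset.filter_eq_empty_iff.2 fun v _ hv => h ?_
      exact (ConjClasses.mk_eq_mk_iff_isConj.2 (isConj_iff.2 ⟨v, hv⟩)).symm
    rw [he, Finset.card_empty, Nat.cast_zero, zero_mul]

/-- The dimension of a corner of the group algebra. -/
theorem finrank_corner_eq [Fintype (Cfsg.IrrCharacter G)] {j : MonoidAlgebra ℂ G}
    (hj : j * j = j) :
    (finrank ℂ (LinearMap.range (cornerMap ℂ j)) : ℂ) =
      ∑ χ : Cfsg.IrrCharacter G, evalChar (χ : G → ℂ) j ^ 2 := by
  classical
  haveI := Fintype.ofFinite G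
  set B := MonoidAlgebra.basis G ℂ
  haveI : FiniteDimensional ℂ (MonoidAlgebra ℂ G) := Module.Finite.of_basis B
  have hproj : LinearMap.IsProj (LinearMap.range (cornerMap ℂ j)) (cornerMap ℂ j) := by
    refine ⟨fun x => LinearMap.mem_range_self _ x, fun x hx => ?_⟩
    obtain ⟨h1, h2⟩ := (mem_corner hj).1 hx
    show j * (x * j) = x
    rw [h2, h1]
  rw [← hproj.trace, LinearMap.trace_eq_matrix_trace ℂ B, Matrix.trace]
  have hdiag : ∀ g : G, Matrix.diag (LinearMap.toMatrix B B (cornerMap ℂ j)) g =
      ∑ a : G, j.coeff a * j.coeff (g⁻¹ * a⁻¹ * g) := by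
    intro g
    rw [Matrix.diag_apply, LinearMap.toMatrix_apply]
    show (B.repr (j * (B g * j))) g = _
    rw [MonoidAlgebra.basis_apply]
    show (j * (single g 1 * j)).coeff g = _
    rw [coeff_mul']
    refine Finset.sum_congr rfl fun a _ => ?_
    rw [coeff_single_mul', one_mul, mul_assoc]
  simp only [hdiag]
  rw [Finset.sum_comm]
  have hsum : ∀ a : G, ∑ g : G, j.coeff a * j.coeff (g⁻¹ * a⁻¹ * g) =
      j.coeff a * ∑ χ : Cfsg.IrrCharacter G, (χ : G → ℂ) a * evalChar (χ : G → ℂ) j := by
    intro a
    rw [← Finset.mul_sum]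
    congr 1
    rw [Fintype.sum_equiv (Equiv.inv G) (fun g => j.coeff (g⁻¹ * a⁻¹ * g))
      (fun v => j.coeff (v * a⁻¹ * v⁻¹)) (fun g => by simp), sum_conj_coeff, ← sum_conj_evalChar]
    refine Finset.sum_congr rfl fun χ _ => ?_
    rw [char_inv (irr_isCharacter χ), Complex.conj_conj]
  simp only [hsum, Finset.mul_sum]
  rw [Finset.sum_comm]
  refine Finset.sum_congr rfl fun χ _ => ?_
  rw [sq, evalChar_eq_sum, Finset.sum_mul]
  exact Finset.sum_congr rfl fun a _ => (mul_assoc _ _ _).symm

/-- Values of a character at an idempotent are natural numbers. -/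
theorem evalChar_idem_nat (χ : Cfsg.IrrCharacter G) {j : MonoidAlgebra ℂ G} (hj : j * j = j) :
    ∃ n : ℕ, evalChar (χ : G → ℂ) j = (n : ℂ) ∧
      (n = 0 → ∀ u v, evalChar (χ : G → ℂ) (u * j * v) = 0) := by
  obtain ⟨χ, m, ρ, hρ, rfl⟩ := χ
  set f := ρ.asAlgebraHom j with hf
  have hf2 : f * f = f := by rw [hf, ← map_mul, hj]
  have hproj : LinearMap.IsProj (LinearMap.range f) f := by
    refine ⟨fun x => LinearMap.mem_range_self _ x, ?_⟩
    rintro _ ⟨y, rfl⟩
    exact DFunLike.congr_fun hf2 y
  refine ⟨finrank ℂ (LinearMap.range f), ?_, fun h0 u v => ?_⟩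
  · rw [evalChar_eq_trace, hproj.trace]
  · have hz : f = 0 := LinearMap.range_eq_bot.1 (Submodule.finrank_eq_zero.1 h0)
    rw [evalChar_eq_trace, map_mul ρ.asAlgebraHom, map_mul ρ.asAlgebraHom, ← hf, hz, mul_zero, zero_mul, map_zero]

end Complex

end Cfsg.Agent.BlockCharsA.TwoChars
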