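import Mathlib
import Cfsg.Agent.Lib.Blocks.Star.Ambient
import Cfsg.Agent.Lib.Blocks.LatticeAlgebra
import Cfsg.Agent.Lib.Blocks.Orthogonality
import Cfsg.Agent.BlockCharsA.TwoChars.ClassMap

/-!
# A projective indecomposable character in a block with two characters
-/

set_option linter.style.haveILetI false
set_option linter.unusedSectionVars false

namespace Cfsg.Agent.BlockCharsA.TwoChars

open Module MonoidAlgebra Cfsg.Agent.Blocks Cfsg.Agent.Characters Cfsg.Agent.Blocks.Star
open Cfsg.Agent.Blocks.Lattice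
open scoped ComplexConjugate

universe u v

section Local

theorem isAlgClosed_residue {O : Type u} [CommRing O] [IsLocalRing O] (h : SplitsAll O) :
    IsAlgClosed (IsLocalRing.ResidueField O) := by
  refine IsAlgClosed.of_exists_root _ fun P hP hirr => ?_
  have hlift : P ∈ Polynomial.lifts (IsLocalRing.residue O) :=
    (Polynomial.mem_lifts P).2 (Polynomial.map_surjective _ IsLocalRing.residue_surjective P)
  obtain ⟨Q, hQ, -, hQm⟩ := Polynomial.lifts_and_degree_eq_and_monic hlift hP
  obtain ⟨s, rfl⟩ := h Q hQm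
  rcases Multiset.empty_or_exists_mem s with rfl | ⟨a, ha⟩
  · rw [Multiset.map_zero, Multiset.prod_zero, Polynomial.map_one] at hQ
    exact absurd isUnit_one (hQ ▸ hirr.not_isUnit)
  · refine ⟨IsLocalRing.residue O a, ?_⟩
    obtain ⟨t, rfl⟩ := Multiset.exists_cons_of_mem ha
    rw [← hQ, Multiset.map_cons, Multiset.prod_cons, Polynomial.map_mul, Polynomial.eval_mul,
      Polynomial.map_sub, Polynomial.map_X, Polynomial.map_C, Polynomial.eval_sub,
      Polynomial.eval_X, Polynomial.eval_C, sub_self, zero_mul]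

/-- Reductions of dependent vectors are dependent. -/
theorem not_independent_residue {O : Type u} [CommRing O] [IsLocalRing O] {K : Type v} [Field K]
    (ι : O →+* K) {κ : Type*} [Fintype κ] [DecidableEq κ] {σ : Type*} [Fintype σ] [DecidableEq σ]
    (A : κ → σ → O) (c : κ → K) (hc : c ≠ 0) (h : ∀ s, ∑ i, c i * ι (A i s) = 0) :
    ¬ LinearIndependent (IsLocalRing.ResidueField O)
      (fun i => fun s => IsLocalRing.residue O (A i s)) := by
  intro hind
  set k := IsLocalRing.ResidueField O
  set res := IsLocalRing.residue O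
  set L : (κ → k) →ₗ[k] (σ → k) := Fintype.linearCombination k fun i => fun s => res (A i s)
  obtain ⟨L', hL'⟩ := L.exists_leftInverse_of_injective
    (LinearMap.ker_eq_bot.2 (Fintype.linearIndependent_iff.1 hind |> fun hh => by
      intro a b hab
      have := hh (a - b) (by
        have e : L (a - b) = 0 := by rw [map_sub, hab, sub_self]
        simpa [L, Fintype.linearCombination_apply] using e)
      exact sub_eq_zero.1 (funext this)))
  choose r hr using fun i s => IsLocalRing.residue_surjective (L' (Pi.single s 1) i)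
  set N : Matrix κ κ O := Matrix.of fun i l => ∑ s, r i s * A l s with hN
  have hN1 : (N.map res) = 1 := by
    ext i l
    have h1 : L' (L (Pi.single l 1)) = Pi.single l 1 := DFunLike.congr_fun hL' _
    have h2 : L (Pi.single l 1) = ∑ s, res (A l s) • Pi.single s (1 : k) := by
      funext t
      rw [Finset.sum_apply, Finset.sum_eq_single t]
      · simp [L, Fintype.linearCombination_apply, Pi.single_apply, ite_apply]
      · intro b _ hb; simp [Pi.single_apply, Ne.symm hb]
      · simp
    rw [h2, map_sum] at h1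
    have h3 := congrFun h1 i
    simp only [Finset.sum_apply, map_smul, Pi.smul_apply, smul_eq_mul] at h3
    rw [Matrix.map_apply, hN, Matrix.of_apply, map_sum, Matrix.one_apply]
    rw [Pi.single_apply] at h3
    rw [← h3]
    exact Finset.sum_congr rfl fun s _ => by rw [map_mul, hr, mul_comm]
  have hdet : IsUnit N.det := by
    refine isUnit_of_map_unit res _ ?_
    rw [RingHom.map_det, RingHom.mapMatrix_apply, hN1, Matrix.det_one]
    exact isUnit_one
  have hK : IsUnit (N.map ι) := by
    rw [Matrix.isUnit_iff_isUnit_det, ← RingHom.mapMatrix_apply, ← RingHom.map_det]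
    exact hdet.map ι
  refine hc (Matrix.mulVec_injective_of_isUnit hK ?_)
  rw [Matrix.mulVec_zero]
  funext i
  show ∑ l, (N.map ι) i l * c l = 0
  simp only [Matrix.map_apply, hN, Matrix.of_apply, map_sum, map_mul, Finset.sum_mul]
  rw [Finset.sum_comm]
  refine Finset.sum_eq_zero fun s _ => ?_
  rw [Finset.sum_congr rfl (g := fun l => ι (r i s) * (c l * ι (A l s))) fun l _ => by ring,
    ← Finset.mul_sum, h s, mul_zero]

end Local

section Lift

variable {G : Type u} [Group G] [Finite G] {p : ℕ} {M : Ideal Cfsg.AlgInt}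

/-- The integral group algebra. -/
abbrev IntAlg (hM : Cfsg.IsPModular p M) (G : Type u) [Group G] : Type u := MonoidAlgebra (Loc hM) G

/-- The residue field. -/
abbrev Res (hM : Cfsg.IsPModular p M) : Type := IsLocalRing.ResidueField (Loc hM)

/-- Reduction of coefficients. -/
noncomputable abbrev red (hM : Cfsg.IsPModular p M) :
    IntAlg hM G →+* MonoidAlgebra (Res hM) G :=
  MonoidAlgebra.mapRingHom G (IsLocalRing.residue (Loc hM))

/-- The inclusion of coefficients in `ℂ`. -/
noncomputable abbrev inc (hM : Cfsg.IsPModular p M) : IntAlg hM G →+* MonoidAlgebra ℂ G :=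
  push (Loc hM).subtype

theorem coeff_red (hM : Cfsg.IsPModular p M) (x : IntAlg hM G) (g : G) :
    (red hM x).coeff g = IsLocalRing.residue (Loc hM) (x.coeff g) :=
  MonoidAlgebra.coeff_map (IsLocalRing.residue (Loc hM)).toAddMonoidHom x ▸ rfl

theorem red_smul (hM : Cfsg.IsPModular p M) (a : Loc hM) (x : IntAlg hM G) :
    red hM (a • x) = IsLocalRing.residue (Loc hM) a • red hM x := by
  ext g
  rw [coeff_red, MonoidAlgebra.coeff_smul_apply, MonoidAlgebra.coeff_smul_apply, coeff_red,
    smul_eq_mul, smul_eq_mul, map_mul]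

theorem red_surjective (hM : Cfsg.IsPModular p M) :
    Function.Surjective (red (G := G) hM) := fun x => by
  choose f hf using fun g => IsLocalRing.residue_surjective (R := Loc hM) (x.coeff g)
  refine ⟨Lattice.ofCoeff f, ?_⟩
  ext g
  rw [coeff_red, Lattice.coeff_ofCoeff, hf]

theorem mem_mR_of_red (hM : Cfsg.IsPModular p M) {x : IntAlg hM G} (hx : red hM x = 0) :
    x ∈ mR (Loc hM) (IntAlg hM G) := by
  classical
  haveI := Fintype.ofFinite G
  rw [gel_eq_sum x]
  refine Submodule.sum_mem _ fun g _ => ?_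
  rw [show (single g (x.coeff g) : IntAlg hM G) = x.coeff g • single g 1 by
    rw [smul_single, smul_eq_mul, mul_one]]
  refine smul_mem_mR ?_ _
  rw [← IsLocalRing.residue_eq_zero_iff, ← coeff_red, hx, MonoidAlgebra.coeff_zero,
    Finsupp.zero_apply]

theorem red_of_mem_mR (hM : Cfsg.IsPModular p M) {x : IntAlg hM G}
    (hx : x ∈ mR (Loc hM) (IntAlg hM G)) : red hM x = 0 := by
  induction hx using Submodule.smul_induction_on' with
  | smul a ha b _ => rw [red_smul, (IsLocalRing.residue_eq_zero_iff a).2 ha, zero_smul]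
  | add a _ b _ iha ihb => rw [map_add, iha, ihb, add_zero]

theorem intEl_iff_exists (hM : Cfsg.IsPModular p M) {z : MonoidAlgebra ℂ G} (hz : IntEl M z) :
    ∃ x : IntAlg hM G, inc hM x = z :=
  ⟨Lattice.ofCoeff fun g => ⟨z.coeff g, hz g⟩, el_ext fun g => by rw [coeff_push, Lattice.coeff_ofCoeff]; rfl⟩

theorem inc_intEl (hM : Cfsg.IsPModular p M) (x : IntAlg hM G) : IntEl M (inc hM x) := fun g => by
  rw [coeff_push]; exact (x.coeff g).2

variable {B : Set (Cfsg.IrrCharacter G)}

/-- In a block with two characters some idempotent has a corner of dimension at most two and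
generates the block. -/
theorem exists_lift (hM : Cfsg.IsPModular p M) (hB : Cfsg.IsPBlock M B) {χ₁ χ₂ : Cfsg.IrrCharacter G}
    (hB2 : B = {χ₁, χ₂}) :
    ∃ j : MonoidAlgebra ℂ G, IntEl M j ∧ j * j = j ∧ blockIdem B * j = j ∧
      finrank ℂ (LinearMap.range (cornerMap ℂ j)) ≤ 2 ∧
        ∃ (k : ℕ) (a b : Fin k → MonoidAlgebra ℂ G), ∑ i, a i * j * b i = blockIdem B := by
  classical
  haveI := Fintype.ofFinite G
  haveI := Fintype.ofFinite (Cfsg.IrrCharacter G)
  haveI : IsAlgClosed (Res hM) := isAlgClosed_residue (splitsAll_loc hM)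
  haveI : Module.Finite (Res hM) (MonoidAlgebra (Res hM) G) :=
    Module.Finite.of_basis (MonoidAlgebra.basis G (Res hM))
  haveI : Module.Finite (Loc hM) (IntAlg hM G) :=
    Module.Finite.of_basis (MonoidAlgebra.basis G (Loc hM))
  set ι := (Loc hM).subtype with hι
  have hinj : Function.Injective (inc (G := G) hM) := push_injective Subtype.val_injective
  have hχ₁ : χ₁ ∈ B := hB2 ▸ Set.mem_insert _ _
  obtain ⟨eB, heB⟩ := intEl_iff_exists hM (intEl_blockIdem hM hB)
  have hee : eB * eB = eB := hinj (by rw [map_mul, heB, blockIdem_mul_self])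
  have hec : ∀ x, eB * x = x * eB := fun x => hinj (by
    rw [map_mul, map_mul, heB, (central_commute (central_blockIdem B) _).eq])
  set e := red hM eB with he
  have he2 : e * e = e := by rw [he, ← map_mul, hee]
  have hec' : ∀ x, e * x = x * e := fun x => by
    obtain ⟨x, rfl⟩ := red_surjective hM x
    rw [he, ← map_mul, hec, map_mul]
  have hω1 : omega (χ₁ : G → ℂ) (blockIdem B) = 1 := omega_blockIdem_mem hχ₁
  have he0 : e ≠ 0 := by
    intro h
    rw [← heB, idem_eq_zero hee (mem_mR_of_red hM h), map_zero, omega_zero] at hω1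
    exact zero_ne_one hω1
  clear_value e
  -- the traces
  have hr : finrank (Res hM)
      ((LinearMap.range (LinearMap.mulLeft (Res hM) e)).map classCoeff) ≤ 2 := by
    by_contra hlt
    push Not at hlt
    set S := (LinearMap.range (LinearMap.mulLeft (Res hM) e)).map classCoeff
    obtain ⟨f, hf⟩ := exists_linearIndependent_of_le_finrank (R := Res hM) (M := S)
      (n := 3) (by omega)
    have hmem : ∀ i, ∃ x : IntAlg hM G, classCoeff (red hM (eB * x)) = (f i : ConjClasses G → Res hM) := by
      intro i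
      obtain ⟨y, ⟨w, hw⟩, hy⟩ := (f i).2
      obtain ⟨x, rfl⟩ := red_surjective hM w
      refine ⟨x, ?_⟩
      rw [map_mul, ← hy, ← hw, ← he]
      rfl
    choose x hx using hmem
    set w : Fin 3 → Fin 2 → ℂ := fun i => ![evalChar (χ₁ : G → ℂ) (inc hM (x i)),
      evalChar (χ₂ : G → ℂ) (inc hM (x i))]
    have hdep : ¬ LinearIndependent ℂ w := fun hh => by
      have := hh.fintype_card_le_finrank
      rw [Fintype.card_fin, Module.finrank_fin_fun] at this
      omega
    rw [Fintype.not_linearIndependent_iff] at hdep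
    obtain ⟨c, hc, i, hci⟩ := hdep
    have hzero : ∀ C : ConjClasses G, ∑ i, c i * ι (classCoeff (eB * x i) C) = 0 := by
      intro C
      obtain ⟨g, rfl⟩ := ConjClasses.mk_surjective C
      have hn : (Nat.card (Subgroup.centralizer ({g} : Set G)) : ℂ) ≠ 0 :=
        Nat.cast_ne_zero.2 Nat.card_pos.ne'
      refine mul_left_cancel₀ hn ?_
      rw [Finset.mul_sum, mul_zero]
      have hterm : ∀ i, (Nat.card (Subgroup.centralizer ({g} : Set G)) : ℂ) *
          (c i * ι (classCoeff (eB * x i) (ConjClasses.mk g))) =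
          ∑ χ : Cfsg.IrrCharacter G, conj ((χ : G → ℂ) g) * omega (χ : G → ℂ) (blockIdem B) *
            (c i * evalChar (χ : G → ℂ) (inc hM (x i))) := by
        intro i
        rw [classCoeff_map ι, mul_left_comm]
        show c i * (_ * classCoeff (inc hM (eB * x i)) _) = _
        rw [← sum_conj_evalChar, map_mul, heB, Finset.mul_sum]
        refine Finset.sum_congr rfl fun χ _ => ?_
        rw [evalChar_central_mul χ (central_blockIdem B)]
        ring
      simp only [hterm]
      rw [Finset.sum_comm]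
      refine Finset.sum_eq_zero fun χ _ => ?_
      rw [← Finset.mul_sum]
      by_cases hχ : χ ∈ B
      · have hcomp : ∀ k : Fin 2, ∑ i, c i * w i k = 0 := fun k => by
          simpa [Finset.sum_apply] using congrFun hc k
        rw [hB2] at hχ
        rcases hχ with rfl | hχ
        · exact mul_eq_zero_of_right _ (hcomp 0)
        · rw [Set.mem_singleton_iff.1 hχ]
          exact mul_eq_zero_of_right _ (hcomp 1)
      · rw [omega_blockIdem_notMem hχ, mul_zero, zero_mul]
    refine not_independent_residue ι (fun i C => classCoeff (eB * x i) C) c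
      (fun h => hci (congrFun h i)) hzero ?_
    have he' : (fun i => fun C => IsLocalRing.residue (Loc hM) (classCoeff (eB * x i) C)) =
        fun i => (f i : ConjClasses G → Res hM) := by
      funext i C
      rw [classCoeff_map (IsLocalRing.residue (Loc hM)), ← hx i]
    rw [he']
    exact hf.map' S.subtype (Submodule.ker_subtype S)
  set lam : MonoidAlgebra (Res hM) G →ₗ[Res hM] Res hM :=
    (LinearMap.proj (ConjClasses.mk (1 : G))).comp classCoeff
  have hlamv : ∀ x, lam x = x.coeff 1 := fun x => classCoeff_one x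
  have hnd : ∀ x, (∀ y, lam (x * y) = 0) → x = 0 := fun x hx => by
    ext g
    have := hx (single g⁻¹ 1)
    rw [hlamv, MonoidAlgebra.coeff_mul_single_apply, inv_inv, one_mul, mul_one] at this
    rw [this, MonoidAlgebra.coeff_zero, Finsupp.zero_apply]
  have hprim : ∀ c : MonoidAlgebra (Res hM) G, (∀ x, c * x = x * c) → c * c = c → e * c = c →
      c = 0 ∨ c = e := by
    intro c hc hcc hce
    have hcl : ∀ g h : G, IsConj g h → c.coeff g = c.coeff h := by
      intro g h hgh
      obtain ⟨v, rfl⟩ := isConj_iff.1 hgh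
      have h1 := congrArg (fun z : MonoidAlgebra (Res hM) G => z.coeff (v * g)) (hc (single v 1))
      rw [MonoidAlgebra.coeff_mul_single_apply, MonoidAlgebra.coeff_single_mul_apply,
        mul_one, one_mul, inv_mul_cancel_left] at h1
      exact h1.symm
    choose ℓ hℓ using fun C : ConjClasses G =>
      IsLocalRing.residue_surjective (R := Loc hM) (c.coeff C.out)
    set C₀ : IntAlg hM G := Lattice.ofCoeff fun g => ℓ (ConjClasses.mk g) with hC₀
    have hredC : red hM C₀ = c := by
      ext g
      rw [coeff_red, hC₀, Lattice.coeff_ofCoeff, hℓ]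
      exact hcl _ _ (ConjClasses.mk_eq_mk_iff_isConj.1 (Quotient.out_eq _))
    have hcen : IsCentralEl (inc hM C₀) := fun g h => by
      rw [coeff_push, coeff_push, hC₀, Lattice.coeff_ofCoeff, Lattice.coeff_ofCoeff,
        ConjClasses.mk_eq_mk_iff_isConj.2 (isConj_iff.2 ⟨h, rfl⟩ : IsConj g (h * g * h⁻¹))]
    set Z := eB * C₀
    have hZv : inc hM Z = blockIdem B * inc hM C₀ := by rw [map_mul, heB]
    have hZc : IsCentralEl (inc hM Z) := by
      rw [hZv]; exact central_mul (central_blockIdem B) hcen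
    set a : Loc hM := ⟨_, omega_ring hM χ₁ hZc (inc_intEl hM Z)⟩
    set b : Loc hM := ⟨_, omega_ring hM χ₂ hZc (inc_intEl hM Z)⟩
    have hχ₂ : χ₂ ∈ B := hB2 ▸ Set.mem_insert_of_mem _ rfl
    have hab : IsLocalRing.residue (Loc hM) a = IsLocalRing.residue (Loc hM) b := by
      rw [← sub_eq_zero, ← map_sub, IsLocalRing.residue_eq_zero_iff, mem_maximal_iff]
      exact omega_cong_of_mem hM hB hχ₁ hχ₂ hZc (inc_intEl hM Z)
    have hprod : (Z - a • eB) * (Z - b • eB) = 0 := by
      apply hinj
      rw [map_mul, map_sub, map_sub, push_smul, push_smul, heB, map_zero]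
      have hA : ∀ t : ℂ, IsCentralEl (inc hM Z - t • blockIdem B) := fun t =>
        central_sub hZc (central_smul t (central_blockIdem B))
      refine central_omega_ext (central_mul (hA _) (hA _)) central_zero fun χ => ?_
      rw [omega_mul χ (hA _), omega_sub, omega_sub, omega_smul, omega_smul, omega_zero]
      by_cases hχ : χ ∈ B
      · rw [omega_blockIdem_mem hχ, mul_one, mul_one]
        rw [hB2] at hχ
        rcases hχ with rfl | hχ
        · exact mul_eq_zero_of_left (sub_self _) _
        · rw [Set.mem_singleton_iff.1 hχ]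
          exact mul_eq_zero_of_right _ (sub_self _)
      · rw [omega_blockIdem_notMem hχ, mul_zero, mul_zero, hZv,
          omega_mul χ (central_blockIdem B), omega_blockIdem_notMem hχ, zero_mul, sub_zero,
          zero_mul]
    have h := congrArg (red hM) hprod
    rw [map_mul, map_sub, map_sub, red_smul, red_smul, ← hab, map_zero,
      show red hM Z = c by rw [map_mul, hredC, ← he, hce], ← he] at h
    generalize IsLocalRing.residue (Loc hM) a = γ at h
    have hce' : c * e = c := by rw [← hec' c, hce]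
    simp only [sub_mul, mul_sub, smul_mul_assoc, mul_smul_comm, hcc, hce, hce', he2, smul_sub,
      smul_smul] at h
    rcases eq_or_ne γ 1 with h1 | h1
    · right
      rw [h1, one_smul, mul_one, one_smul, sub_self, zero_sub, neg_sub, sub_eq_zero] at h
      exact h.symm
    · left
      have h2 := congrArg (fun z => c * z) h
      simp only [mul_sub, mul_smul_comm, hcc, hce', mul_zero] at h2
      have h3 : ((1 - γ) * (1 - γ)) • c = 0 := by
        rw [← h2]
        simp only [sub_mul, mul_sub, one_mul, mul_one, sub_smul, one_smul, smul_sub, mul_smul]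
      exact (smul_eq_zero.1 h3).resolve_left (mul_ne_zero (sub_ne_zero.2 h1.symm)
        (sub_ne_zero.2 h1.symm))
  obtain ⟨E, hE, heE, hdim, k, a, b, hab⟩ := exists_small_corner e he2 hec' he0 classCoeff
    classCoeff_eq_zero_iff hr lam (fun x hx => by
      show classCoeff x (ConjClasses.mk (1 : G)) = 0
      rw [hx, Pi.zero_apply]) hnd hprim
  -- the lift
  obtain ⟨z, hz⟩ := red_surjective hM E
  obtain ⟨q, hq, hqz⟩ := exists_idem_lift (splitsAll_loc hM) (z := z)
    (mem_mR_of_red hM (by rw [map_sub, map_mul, hz, hE, sub_self]))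
  set j := eB * Polynomial.aeval z q with hj
  have hjj : j * j = j := by
    rw [hj, mul_assoc, ← mul_assoc _ eB, ← hec, mul_assoc eB _, ← mul_assoc, hee, hq]
  have hej : eB * j = j := by rw [hj, ← mul_assoc, hee]
  have hredj : red hM j = E := by
    have := red_of_mem_mR hM hqz
    rw [map_sub, sub_eq_zero] at this
    rw [hj, map_mul, this, hz, ← he, heE]
  clear_value j
  choose a' ha' using fun i => red_surjective hM (a i)
  choose b' hb' using fun i => red_surjective hM (b i)
  set S := ∑ i, a' i * j * b' i with hS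
  have hredS : red hM S = e := by
    simp only [hS, map_sum, map_mul, ha', hb', hredj, hab]
  have heS : eB * S = S := by
    rw [hS, Finset.mul_sum]
    refine Finset.sum_congr rfl fun i _ => ?_
    rw [← mul_assoc, ← mul_assoc, hec, mul_assoc (a' i) eB, hej]
  obtain ⟨u, hu⟩ := isUnit_of_cong_one (w := 1 - eB + S) (mem_mR_of_red hM (by
    rw [map_sub, map_add, map_sub, hredS, ← he]; abel))
  have hgen : ∑ i, a' i * j * (b' i * (↑u⁻¹ : IntAlg hM G)) = eB := by
    simp only [← mul_assoc, ← Finset.sum_mul]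
    rw [← hS, ← heS, show eB * S = eB * (u : IntAlg hM G) by
      rw [hu, mul_add, mul_sub, mul_one, hee, sub_self, zero_add], mul_assoc, Units.mul_inv,
      mul_one]
  have hjC : inc hM j * inc hM j = inc hM j := by rw [← map_mul, hjj]
  refine ⟨inc hM j, inc_intEl hM j, hjC, ?_, ?_, k, fun i => inc hM (a' i),
    fun i => inc hM (b' i * (↑u⁻¹ : IntAlg hM G)), ?_⟩
  · rw [← heB, ← map_mul, hej]
  rotate_left
  · simp only [← map_mul, ← map_sum, hgen, heB]
  -- the dimension
  set C := LinearMap.range ((LinearMap.mulLeft (Loc hM) j).comp (LinearMap.mulRight (Loc hM) j))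
    with hC
  have hCmem : ∀ x, j * (x * j) ∈ C := fun x => ⟨x, rfl⟩
  have hCfg : C.FG := by
    rw [hC, LinearMap.range_eq_map]
    exact Module.Finite.fg_top.map _
  obtain ⟨v₁, v₂, hv⟩ : ∃ v₁ v₂ : MonoidAlgebra (Res hM) G, ∀ x ∈ LinearMap.range
      (cornerMap (Res hM) E), ∃ s t : Res hM, x = s • v₁ + t • v₂ ∧
        v₁ ∈ LinearMap.range (cornerMap (Res hM) E) ∧
        v₂ ∈ LinearMap.range (cornerMap (Res hM) E) := by
    set A := LinearMap.range (cornerMap (Res hM) E)
    obtain ⟨g, hg⟩ : ∃ g : Fin 2 → A, Submodule.span (Res hM) (Set.range g) = ⊤ := by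
      obtain ⟨n, g, hn, hg⟩ : ∃ (n : ℕ) (g : Fin n → A), n ≤ 2 ∧
          Submodule.span (Res hM) (Set.range g) = ⊤ :=
        ⟨finrank (Res hM) A, Module.finBasis (Res hM) A, hdim, Basis.span_eq _⟩
      refine ⟨fun i => if h : (i : ℕ) < n then g ⟨i, h⟩ else 0, top_le_iff.1 ?_⟩
      rw [← hg]
      refine Submodule.span_mono ?_
      rintro _ ⟨i, rfl⟩
      exact ⟨⟨i, i.2.trans_le hn⟩, dif_pos i.2⟩
    refine ⟨g 0, g 1, fun x hx => ?_⟩
    have := hg.ge (Submodule.mem_top (x := (⟨x, hx⟩ : A)))
    rw [Submodule.mem_span_range_iff_exists_fun, ] at this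
    obtain ⟨c, hc⟩ := this
    refine ⟨c 0, c 1, ?_, (g 0).2, (g 1).2⟩
    have h2 := congrArg Subtype.val hc
    rw [Fin.sum_univ_two] at h2
    simpa using h2.symm
  obtain ⟨-, -, -, hv₁, hv₂⟩ := hv E ((mem_corner hE).2 ⟨hE, hE⟩)
  obtain ⟨y₁, hy₁⟩ := hv₁
  obtain ⟨y₂, hy₂⟩ := hv₂
  obtain ⟨Y₁, rfl⟩ := red_surjective hM y₁
  obtain ⟨Y₂, rfl⟩ := red_surjective hM y₂
  set U₁ := j * (Y₁ * j)
  set U₂ := j * (Y₂ * j)
  have hU₁ : red hM U₁ = v₁ := by rw [map_mul, map_mul, hredj]; exact hy₁
  have hU₂ : red hM U₂ = v₂ := by rw [map_mul, map_mul, hredj]; exact hy₂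
  set N := Submodule.span (Loc hM) ({U₁, U₂} : Set (IntAlg hM G)) with hN
  have hCN : C ≤ N := by
    refine Submodule.le_of_le_smul_of_le_jacobson_bot hCfg
      (IsLocalRing.jacobson_eq_maximalIdeal ⊥ bot_ne_top).ge (I := IsLocalRing.maximalIdeal (Loc hM))
      ?_
    intro x hx
    obtain ⟨y, rfl⟩ := hx
    show j * (y * j) ∈ _
    obtain ⟨s, t, hst, -, -⟩ := hv (red hM (j * (y * j))) ⟨red hM y, by
      rw [map_mul, map_mul, hredj]; rfl⟩
    obtain ⟨s, rfl⟩ := IsLocalRing.residue_surjective s
    obtain ⟨t, rfl⟩ := IsLocalRing.residue_surjective t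
    have hdiff : j * (y * j) - (s • U₁ + t • U₂) ∈ mR (Loc hM) (IntAlg hM G) :=
      mem_mR_of_red hM (by rw [map_sub, map_add, red_smul, red_smul, hU₁, hU₂, hst, sub_self])
    have hm : (LinearMap.mulLeft (Loc hM) j).comp (LinearMap.mulRight (Loc hM) j)
        (j * (y * j) - (s • U₁ + t • U₂)) ∈ IsLocalRing.maximalIdeal (Loc hM) • C := by
      have h2 := Submodule.mem_map_of_mem
        (f := (LinearMap.mulLeft (Loc hM) j).comp (LinearMap.mulRight (Loc hM) j)) hdiff
      rwa [mR, Submodule.map_smul'', Submodule.map_top] at h2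
    have hfix : ∀ w, j * (j * (w * j) * j) = j * (w * j) := fun w => by
      rw [mul_assoc j (w * j), mul_assoc w, hjj, ← mul_assoc, hjj]
    have hval : (LinearMap.mulLeft (Loc hM) j).comp (LinearMap.mulRight (Loc hM) j)
        (j * (y * j) - (s • U₁ + t • U₂)) = j * (y * j) - (s • U₁ + t • U₂) := by
      show j * ((j * (y * j) - (s • U₁ + t • U₂)) * j) = _
      simp only [sub_mul, add_mul, mul_sub, mul_add, smul_mul_assoc, mul_smul_comm, U₁, U₂, hfix]
    rw [hval] at hm
    refine Submodule.mem_sup.2 ⟨s • U₁ + t • U₂, add_mem (Submodule.smul_mem _ _ (Submodule.subset_span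
      (Set.mem_insert _ _))) (Submodule.smul_mem _ _ (Submodule.subset_span
      (Set.mem_insert_of_mem _ rfl))), _, hm, add_sub_cancel _ _⟩
  have hle : LinearMap.range (cornerMap ℂ (inc hM j)) ≤
      Submodule.span ℂ (Set.range ![inc hM U₁, inc hM U₂]) := by
    rintro _ ⟨x, rfl⟩
    rw [eq_sum_single x, map_sum]
    refine Submodule.sum_mem _ fun g _ => ?_
    rw [show (single g (x.coeff g) : MonoidAlgebra ℂ G) = x.coeff g • inc hM (single g 1) by
      rw [push_single, smul_single, map_one, smul_eq_mul, mul_one], map_smul]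
    refine Submodule.smul_mem _ _ ?_
    show inc hM j * (inc hM (single g 1) * inc hM j) ∈ _
    rw [← map_mul, ← map_mul]
    obtain ⟨s, t, hst⟩ := Submodule.mem_span_pair.1 (hCN (hCmem (single g 1)))
    rw [← hst, map_add, push_smul, push_smul]
    exact add_mem (Submodule.smul_mem _ _ (Submodule.subset_span ⟨0, rfl⟩))
      (Submodule.smul_mem _ _ (Submodule.subset_span ⟨1, rfl⟩))
  haveI : FiniteDimensional ℂ (MonoidAlgebra ℂ G) :=
    Module.Finite.of_basis (MonoidAlgebra.basis G ℂ)
  refine (Submodule.finrank_mono hle).trans ((finrank_range_le_card _).trans ?_)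
  simp

/-- In a block with exactly two characters their sum vanishes at `p`-singular elements. -/
theorem sum_vanish (hM : Cfsg.IsPModular p M) (hB : Cfsg.IsPBlock M B) {χ₁ χ₂ : Cfsg.IrrCharacter G}
    (hne : χ₁ ≠ χ₂) (hB2 : B = {χ₁, χ₂}) {s : G} (hs : p ∣ orderOf s) :
    (χ₁ : G → ℂ) s + (χ₂ : G → ℂ) s = 0 := by
  classical
  haveI := Fintype.ofFinite G
  haveI := Fintype.ofFinite (Cfsg.IrrCharacter G)
  obtain ⟨j, hji, hjj, hej, hdim, k, a, b, hab⟩ := exists_lift hM hB hB2
  choose n hn hn0 using fun χ : Cfsg.IrrCharacter G => evalChar_idem_nat χ hjj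
  have hout : ∀ χ, χ ∉ B → evalChar (χ : G → ℂ) j = 0 := fun χ hχ => by
    rw [← hej, evalChar_central_mul χ (central_blockIdem B), omega_blockIdem_notMem hχ, zero_mul]
  have hin : ∀ χ, χ ∈ B → n χ ≠ 0 := by
    intro χ hχ h0
    have h1 : evalChar (χ : G → ℂ) (blockIdem B) = 0 := by
      rw [← hab, evalChar_sum]
      exact Finset.sum_eq_zero fun i _ => hn0 χ h0 _ _
    have h2 := omega_blockIdem_mem hχ
    rw [omega, h1, zero_div] at h2
    exact zero_ne_one h2
  have hsq : ∑ χ, (n χ) ^ 2 ≤ 2 := by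
    have h := finrank_corner_eq hjj
    simp only [hn] at h
    norm_cast at h
    rw [← h]
    exact hdim
  have h₁ : χ₁ ∈ B := hB2 ▸ Set.mem_insert _ _
  have h₂ : χ₂ ∈ B := hB2 ▸ Set.mem_insert_of_mem _ rfl
  have hpair : ∀ (α : Type) [AddCommMonoid α] (f : Cfsg.IrrCharacter G → α),
      (∀ χ, χ ∉ B → f χ = 0) → ∑ χ, f χ = f χ₁ + f χ₂ := by
    intro α _ f hf
    rw [← Finset.sum_subset (Finset.subset_univ {χ₁, χ₂}) (fun χ _ hχ => hf χ (by
      simpa [hB2] using hχ)), Finset.sum_pair hne]
  rw [hpair ℕ (fun χ => n χ ^ 2) (fun χ hχ => by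
    have : (n χ : ℂ) = 0 := (hn χ).symm.trans (hout χ hχ)
    rw [Nat.cast_eq_zero.1 this]; rfl)] at hsq
  have hp1 := Nat.pos_of_ne_zero (hin χ₁ h₁)
  have hp2 := Nat.pos_of_ne_zero (hin χ₂ h₂)
  have hn1 : n χ₁ = 1 := by nlinarith
  have hn2 : n χ₂ = 1 := by nlinarith
  -- vanishing at singular classes
  have hvan : ∑ v : G, j.coeff (v * s * v⁻¹) = 0 := by
    obtain ⟨z, w, hzw, hc, hzo, hwo⟩ := exists_ppart hM.1 s
    have h1 := sum_conj_shift_eq_zero hM hji hjj (Commute.refl (1 : G)) hc
      ⟨0, by simp⟩ (by simpa using hM.1.ne_one) hzo hwo (fun g => by simp) (fun g => by simp)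
      (fun h => absurd h (not_isConj_one_of_singular hs ⟨w, hzw, hc, hzo, hwo⟩))
    simpa [hzw] using h1
  rw [sum_conj_coeff, ← sum_conj_evalChar, hpair ℂ _ (fun χ hχ => by rw [hout χ hχ, mul_zero]),
    hn, hn, hn1, hn2, Nat.cast_one, mul_one, mul_one, ← map_add] at hvan
  exact (map_eq_zero (starRingEnd ℂ)).1 hvan

end Lift

end Cfsg.Agent.BlockCharsA.TwoChars
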